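import Groth.Agent.Lib.Lech.Chi
import Groth.Agent.Lib.Tor.Balance
import Groth.Agent.S15821
import Groth.Agent.H80.TorPowKoszul
import Groth.Prelude.Def_IntMult
import Mathlib.Algebra.Homology.Embedding.RestrictionHomology
import Mathlib.Algebra.Homology.Embedding.Basic

/-!
# The Koszul complex of a regular sequence computes Tor
-/

set_option autoImplicit false
set_option linter.style.haveILetI false
set_option backward.isDefEq.respectTransparency false

universe u

namespace Groth.Agent.H19.Koszul.TorChi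

open CategoryTheory CategoryTheory.Limits MonoidalCategory Groth.Agent.Lib HomologicalComplex

variable {A : Type u} [CommRing A]

/-- The embedding `n ↦ -n`. -/
abbrev emb : ComplexShape.Embedding (ComplexShape.down ℕ) (ComplexShape.up ℤ) :=
  ComplexShape.embeddingUpIntLE 0

/-- The Koszul complex as a chain complex. -/
noncomputable abbrev kc (l : List A) : ChainComplex (ModuleCat.{u} A) ℕ :=
  (_root_.Koszul.koszul A l).restriction emb

theorem isZero_X (l : List A) (i : ℤ) (hi : 0 < i) : IsZero ((_root_.Koszul.koszul A l).X i) := by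
  rw [Groth.Agent.Lib.Koszul.Basic.koszul_eq l]
  exact @ModuleCat.isZero_of_subsingleton _ _ _
    (Groth.Agent.H80.TorPowKoszul.isZero_X _ (fun j hj =>
      ModuleCat.subsingleton_of_isZero (HomologicalComplex.isZero_single_obj_X _ 0 _ j (by omega))) l i hi)

theorem flat_X (l : List A) (i : ℤ) : Module.Flat A ((_root_.Koszul.koszul A l).X i) := by
  rw [Groth.Agent.Lib.Koszul.Basic.koszul_eq l]
  have := Groth.Agent.H80.TorPowKoszul.projective_X (Groth.Agent.Lib.Koszul.Basic.sgl (ModuleCat.of A A))
    (fun j => by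
      by_cases hj : j = 0
      · subst hj
        exact Module.Projective.of_equiv
          (HomologicalComplex.singleObjXSelf (ComplexShape.up ℤ) 0 (ModuleCat.of A A)).toLinearEquiv.symm
      · have := ModuleCat.subsingleton_of_isZero
          (HomologicalComplex.isZero_single_obj_X (ComplexShape.up ℤ) 0 (ModuleCat.of A A) j hj)
        infer_instance) l i
  infer_instance

/-- Homology of a complex concentrated in nonpositive degrees. -/
theorem homology_restriction_iso (C : CochainComplex (ModuleCat.{u} A) ℤ) (h1 : IsZero (C.X 1)) :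
    ∀ n : ℕ, Nonempty ((C.restriction emb).homology n ≅ C.homology (-(n : ℤ)))
  | 0 => by
    let φ : C.sc' (-1) 0 1 ⟶ (C.restriction emb).sc' 1 0 0 :=
      { τ₁ := (C.restrictionXIso emb (i := 1) (i' := -1) (by simp)).inv
        τ₂ := (C.restrictionXIso emb (i := 0) (i' := 0) (by simp)).inv
        τ₃ := 0
        comm₁₂ := by
          change _ ≫ (C.restriction emb).d 1 0 = C.d (-1) 0 ≫ _
          rw [C.restriction_d_eq emb (i := 1) (j := 0) (i' := -1) (j' := 0) (by simp) (by simp),
            Iso.inv_hom_id_assoc]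
        comm₂₃ := by
          change _ ≫ (C.restriction emb).d 0 0 = C.d 0 1 ≫ 0
          rw [HomologicalComplex.shape _ _ _ (by simp), comp_zero, comp_zero] }
    haveI : Mono φ.τ₃ := ⟨fun a b _ => h1.eq_of_tgt a b⟩
    haveI : IsIso φ.τ₂ := by dsimp only [φ]; infer_instance
    haveI : Epi φ.τ₁ := by dsimp only [φ]; infer_instance
    haveI := ShortComplex.quasiIso_of_epi_of_isIso_of_mono φ
    exact ⟨(C.restriction emb).homologyIsoSc' 1 0 0 (by simp) (by simp) ≪≫
      (asIso (ShortComplex.homologyMap φ)).symm ≪≫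
      (C.homologyIsoSc' (-1) 0 1 (by simp) (by simp)).symm⟩
  | n + 1 => ⟨C.restrictionHomologyIso emb (n + 2) (n + 1) n (by simp) (by simp)
      (i' := -((n + 2 : ℕ) : ℤ)) (j' := -((n + 1 : ℕ) : ℤ)) (k' := -(n : ℤ))
      (by simp) (by simp) (by simp) (by simp; omega) (by simp)⟩

theorem tor_iso (l : List A) (hl : RingTheory.Sequence.IsWeaklyRegular A l) (N : ModuleCat.{u} A) (n : ℕ) :
    Nonempty (((CategoryTheory.Tor (ModuleCat.{u} A) n).obj (ModuleCat.of A (A ⧸ Ideal.ofList l))).obj N ≅
      (DRing.tensorCx (_root_.Koszul.koszul A l) N).homology (-(n : ℤ))) := by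
  obtain ⟨hK, ⟨e0⟩⟩ := Groth.Agent.S15821.result A l hl
  let K := _root_.Koszul.koszul A l
  have h1 := isZero_X l 1 one_pos
  have hex : ∀ m, (kc l).ExactAt (m + 1) := fun m => by
    obtain ⟨i⟩ := homology_restriction_iso K h1 (m + 1)
    rw [HomologicalComplex.exactAt_iff_isZero_homology]
    exact (hK _ (by omega)).of_iso i
  obtain ⟨i0⟩ := homology_restriction_iso K h1 0
  let q : (kc l).opcycles 0 ≅ ModuleCat.of A (A ⧸ Ideal.ofList l) :=
    ((kc l).isoHomologyι 0 0 (by simp) (by simp)).symm ≪≫ i0 ≪≫ eqToIso (by simp [K]) ≪≫ e0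
  let ε : (kc l).X 0 ⟶ ModuleCat.of A (A ⧸ Ideal.ofList l) := (kc l).pOpcycles 0 ≫ q.hom
  have w : (kc l).d 1 0 ≫ ε = 0 := by
    simp only [ε]
    rw [HomologicalComplex.d_pOpcycles_assoc, zero_comp]
  have hexact : (ShortComplex.mk _ _ w).Exact := by
    have h0 : (ShortComplex.mk ((kc l).d 1 0) ((kc l).pOpcycles 0) ((kc l).d_pOpcycles 1 0)).Exact :=
      ShortComplex.exact_of_g_is_cokernel _ ((kc l).opcyclesIsCokernel 1 0 (by simp))
    let eS : ShortComplex.mk ((kc l).d 1 0) ((kc l).pOpcycles 0) ((kc l).d_pOpcycles 1 0) ≅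
        ShortComplex.mk _ _ w :=
      ShortComplex.isoMk (Iso.refl _) (Iso.refl _) q
        (by simp only [Iso.refl_hom]; rw [Category.id_comp, Category.comp_id])
        (by simp only [Iso.refl_hom]; rw [Category.id_comp])
    exact (ShortComplex.exact_iff_of_iso eS).1 h0
  let T := Groth.Agent.Lib.Tor.Balance.torIsoOfFlatResolution (kc l) (fun i => flat_X l _) hex ε w
    (epi_comp _ _) hexact n
  have hz : IsZero ((DRing.tensorCx K N).X 1) := Functor.map_isZero (tensorRight N) h1
  obtain ⟨i⟩ := homology_restriction_iso (DRing.tensorCx K N) hz n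
  exact ⟨(T.app N).symm ≪≫ i⟩

theorem chi_eq (l : List A) (hl : RingTheory.Sequence.IsWeaklyRegular A l) (M : Type u) [AddCommGroup M]
    [Module A M] :
    IntMult.chi A (A ⧸ Ideal.ofList l) M =
      Groth.Agent.Lib.Koszul.Chi.chi (DRing.tensorCx (_root_.Koszul.koszul A l) (ModuleCat.of A M)) := by
  let C := DRing.tensorCx (_root_.Koszul.koszul A l) (ModuleCat.of A M)
  let f : ℤ → ℤ := fun i => Groth.Agent.Lib.Koszul.Chi.sg i * Groth.Agent.Lib.Koszul.Chi.len A (C.homology i)
  let g : ℕ → ℤ := fun n => -(n : ℤ)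
  have hg : Function.Injective g := fun a b h => by simpa [g] using h
  show _ = ∑ᶠ i, f i
  have hsupp : Function.support f ⊆ Set.range g := fun i hi => by
    by_contra hne
    refine hi ?_
    have hpos : 0 < i := by
      by_contra hle
      exact hne ⟨(-i).toNat, by simp only [g]; omega⟩
    have : IsZero (C.X i) := Functor.map_isZero (tensorRight (ModuleCat.of A M)) (isZero_X l i hpos)
    have := ModuleCat.subsingleton_of_isZero (M := C.homology i)
      ((ShortComplex.exact_iff_isZero_homology _).1 (ShortComplex.exact_of_isZero_X₂ (C.sc i) this))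
    simp only [f]
    rw [show Groth.Agent.Lib.Koszul.Chi.len A (C.homology i) = 0 from
      Groth.Agent.Lib.Koszul.Chi.len_subsingleton _, mul_zero]
  rw [← finsum_mem_univ f, ← finsum_mem_inter_support f Set.univ, Set.univ_inter,
    ← Set.inter_eq_right.mpr hsupp, finsum_mem_inter_support, finsum_mem_range hg]
  refine finsum_congr fun n => ?_
  obtain ⟨e⟩ := tor_iso l hl (ModuleCat.of A M) n
  show _ = Groth.Agent.Lib.Koszul.Chi.sg (g n) * Groth.Agent.Lib.Koszul.Chi.len A (C.homology (g n))
  rw [← Groth.Agent.Lib.Koszul.Chi.len_congr e.toLinearEquiv]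
  congr 1
  simp [Groth.Agent.Lib.Koszul.Chi.sg, g, Int.negOnePow_neg, Int.negOnePow_def, zpow_natCast]

end Groth.Agent.H19.Koszul.TorChi
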